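import Groth.Agent.LineTotal.Glue
import Mathlib.Algebra.MvPolynomial.Equiv

/-! Properties of a line bundle given by charts. -/

universe u

open CategoryTheory Limits AlgebraicGeometry TopologicalSpace

noncomputable section

set_option backward.isDefEq.respectTransparency false
set_option backward.isDefEq.respectTransparency.types false

namespace Groth.Agent.LineTotal

variable {Y V : Scheme.{u}} {π : V ⟶ Y} {κ : Type u} {U : κ → Y.Opens} {c : ∀ i, κ → Γ(Y, U i)}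
  {f : κ → Γ(V, ⊤)}

theorem opensRange_of_isPullback {P W : Scheme.{u}} {q : P ⟶ W} {e : P ⟶ V} {O : Y.Opens} {g : W ⟶ Y}
    [IsOpenImmersion g] (h : IsPullback q e g π) (hO : g.opensRange = O) :
    ∃ _ : IsOpenImmersion e, e.opensRange = π ⁻¹ᵁ O := by
  haveI : IsOpenImmersion e := MorphismProperty.of_isPullback (P := @IsOpenImmersion) h inferInstance
  refine ⟨inferInstance, Opens.ext ?_⟩
  rw [Scheme.Hom.coe_opensRange, ← h.isoPullback_hom_snd, ← hO]
  simp only [Scheme.Hom.comp_base, TopCat.coe_comp]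
  rw [Set.range_comp, h.isoPullback.hom.surjective.range_eq, Set.image_univ,
    Scheme.Pullback.range_snd]
  rfl

theorem bijective_appLE {P : Scheme.{u}} (e : P ⟶ V) [IsOpenImmersion e] {O : V.Opens}
    (hO : O = e.opensRange) (h : ⊤ ≤ e ⁻¹ᵁ O) : Function.Bijective (e.appLE O ⊤ h) := by
  haveI := e.isIso_app O hO.le
  haveI : IsIso (homOfLE h : (⊤ : P.Opens) ⟶ e ⁻¹ᵁ O) :=
    ⟨homOfLE le_top, Subsingleton.elim _ _, Subsingleton.elim _ _⟩
  have : IsIso (e.appLE O ⊤ h) := by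
    rw [Scheme.Hom.appLE]
    infer_instance
  exact ConcreteCategory.bijective_of_isIso _

theorem ι_appLE_top {W : Y.Opens} (h : ⊤ ≤ W.ι ⁻¹ᵁ W) : W.ι.appLE W ⊤ h = W.topIso.inv := by
  rw [Scheme.Opens.ι_appLE, Scheme.Opens.topIso_inv]
  congr 1

/-- Charts on smaller opens. -/
theorem HasCharts.exists_chart (hc : HasCharts π U c f) {i : κ} {W : Y.Opens} (hWi : W ≤ U i) :
    ∃ e : A1 W.toScheme ⟶ V, IsPullback (A1 W.toScheme ↘ W.toScheme) e W.ι π ∧
      ∀ m, e.appTop (f m) = (A1 W.toScheme ↘ W.toScheme).appTop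
        (ev U c W.ι i m (top_le hWi)) * crd W.toScheme := by
  obtain ⟨e, he, hf⟩ := hc i
  refine ⟨tr (Y.homOfLE hWi) 1 ≫ e, ?_, fun m => ?_⟩
  · have h := (isPullback_tr (Y.homOfLE hWi) isUnit_one).paste_vert he
    rwa [Scheme.homOfLE_ι] at h
  · rw [Scheme.Hom.comp_appTop, CommRingCat.comp_apply, hf, map_mul, tr_appTop_over, tr_crd,
      appTop_ev U c _ _ _ _ _ _ (Scheme.homOfLE_ι _ _) (top_le hWi), map_one, one_mul]

theorem appLE_app {P W : Scheme.{u}} {q : P ⟶ W} {e : P ⟶ V} {g : W ⟶ Y}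
    (w : q ≫ g = e ≫ π) {O : Y.Opens} (h : ⊤ ≤ g ⁻¹ᵁ O) (h' : ⊤ ≤ e ⁻¹ᵁ (π ⁻¹ᵁ O)) (s : Γ(Y, O)) :
    e.appLE (π ⁻¹ᵁ O) ⊤ h' (π.app O s) = q.appTop (g.appLE O ⊤ h s) := by
  have key : ∀ (a b : P ⟶ Y) (_ : a = b) (ha : ⊤ ≤ a ⁻¹ᵁ O) (hb : ⊤ ≤ b ⁻¹ᵁ O),
      a.appLE O ⊤ ha = b.appLE O ⊤ hb := by
    rintro a b rfl ha hb
    rfl
  have h1 : ⊤ ≤ (q ≫ g) ⁻¹ᵁ O := fun x _ => h trivial
  have := key _ _ w h1 h'
  rw [Scheme.Hom.appTop, Scheme.Hom.app_eq_appLE, Scheme.Hom.app_eq_appLE, ← CommRingCat.comp_apply,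
    ← CommRingCat.comp_apply, Scheme.Hom.appLE_comp_appLE, Scheme.Hom.appLE_comp_appLE]
  exact (congrArg (fun t => t s) this).symm

theorem appLE_res {P : Scheme.{u}} (e : P ⟶ V) {O : V.Opens} (h : ⊤ ≤ e ⁻¹ᵁ O) (s : Γ(V, ⊤)) :
    e.appLE O ⊤ h (V.presheaf.map (homOfLE le_top).op s) = e.appTop s := by
  rw [← CommRingCat.comp_apply, Scheme.Hom.map_appLE, Scheme.Hom.appTop, Scheme.Hom.app_eq_appLE]
  rfl

/-- On a member, all the functions are multiples of the coordinate. -/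
theorem HasCharts.formula (hc : HasCharts π U c f) (H : ∀ i, c i i = 1) (i m : κ) :
    V.presheaf.map (homOfLE le_top).op (f m) =
      π.app (U i) (c i m) * (V.presheaf.map (homOfLE le_top).op (f i) : Γ(V, π ⁻¹ᵁ U i)) := by
  obtain ⟨e, he, hf⟩ := hc i
  obtain ⟨_, hr⟩ := opensRange_of_isPullback he (Scheme.Opens.opensRange_ι _)
  have hle : ⊤ ≤ e ⁻¹ᵁ (π ⁻¹ᵁ U i) := fun x _ => hr.le ⟨x, rfl⟩
  refine (bijective_appLE e hr.symm hle).1 ?_
  rw [map_mul, appLE_res, appLE_res, appLE_app he.w (top_le le_rfl), hf, hf,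
    show ev U c (U i).ι i i (top_le le_rfl) = 1 from by rw [ev, H, map_one], map_one, one_mul]
  rfl

theorem bijective_of_eval {R S B D : Type*} [CommRing R] [CommRing S] [CommRing B] [CommRing D] (σ : R ≃+* S)
    (θ : MvPolynomial PUnit.{u + 1} S →+* D) (hθ : Function.Bijective θ) (β : B →+* D)
    (hβ : Function.Bijective β) (α : Polynomial R →+* B) (hC : ∀ a, β (α (Polynomial.C a)) = θ (MvPolynomial.C (σ a)))
    (hX : β (α Polynomial.X) = θ (MvPolynomial.X PUnit.unit)) : Function.Bijective α := by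
  let τ : Polynomial R ≃+* MvPolynomial PUnit.{u + 1} S :=
    (Polynomial.mapEquiv σ).trans (MvPolynomial.pUnitAlgEquiv S).symm.toRingEquiv
  have key : β.comp α = θ.comp τ.toRingHom := by
    refine Polynomial.ringHom_ext (fun a => (hC a).trans (congrArg θ ?_)) (hX.trans (congrArg θ ?_))
    · simp [τ]
    · simp [τ]
  have h : Function.Bijective (β ∘ α) := by
    rw [← RingHom.coe_comp, key, RingHom.coe_comp]
    exact hθ.comp τ.bijective
  exact ⟨fun a b e => h.1 (congrArg β e), fun z => by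
    obtain ⟨a, ha⟩ := h.2 (β z)
    exact ⟨a, hβ.1 ha⟩⟩

/-- The coordinate makes the preimage of an affine open a polynomial ring. -/
theorem HasCharts.bijective_eval (hc : HasCharts π U c f) (H : ∀ i, c i i = 1) {i : κ} {W : Y.Opens}
    (hW : IsAffineOpen W) (hWi : W ≤ U i) :
    Function.Bijective (Polynomial.eval₂RingHom (π.app W).hom
      (V.presheaf.map (homOfLE le_top).op (f i))) := by
  obtain ⟨e, he, hf⟩ := hc.exists_chart hWi
  obtain ⟨_, hr⟩ := opensRange_of_isPullback he (Scheme.Opens.opensRange_ι _)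
  have hle : ⊤ ≤ e ⁻¹ᵁ (π ⁻¹ᵁ W) := fun x _ => hr.le ⟨x, rfl⟩
  haveI : IsAffine W.toScheme := hW
  let θ := CommRingCat.ofHom (MvPolynomial.eval₂Hom ((A1 W.toScheme ↘ W.toScheme).appTop).hom
    (AffineSpace.coord W.toScheme (n := PUnit.{u + 1})))
  haveI : IsIso θ := by
    have h1 : θ = (Scheme.ΓSpecIso _).inv ≫ (AffineSpace.isoOfIsAffine PUnit.{u + 1} W.toScheme).hom.appTop := by
      rw [AffineSpace.isoOfIsAffine_hom_appTop, Iso.inv_hom_id_assoc]
    rw [h1]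
    infer_instance
  let σ : Γ(Y, W) ≃+* Γ(W.toScheme, ⊤) := W.topIso.symm.commRingCatIsoToRingEquiv
  refine bijective_of_eval σ θ.hom (ConcreteCategory.bijective_of_isIso θ)
    (e.appLE (π ⁻¹ᵁ W) ⊤ hle).hom (bijective_appLE e hr.symm hle) _ (fun a => ?_) ?_
  · rw [Polynomial.coe_eval₂RingHom, Polynomial.eval₂_C]
    have h1 := appLE_app (O := W) he.w (fun x _ => x.2) hle a
    rw [ι_appLE_top] at h1
    exact h1.trans (MvPolynomial.eval₂Hom_C _ _ _).symm
  · rw [Polynomial.coe_eval₂RingHom, Polynomial.eval₂_X]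
    have h1 : e.appLE (π ⁻¹ᵁ W) ⊤ hle (V.presheaf.map (homOfLE le_top).op (f i)) = crd W.toScheme := by
      rw [appLE_res, hf, show ev U c W.ι i i (top_le hWi) = 1 from by rw [ev, H, map_one], map_one, one_mul]
    exact h1.trans (MvPolynomial.eval₂Hom_X' _ _ _).symm

/-- The locus where the `m`-th function does not vanish on the fibre is `U m`. -/
theorem HasCharts.image_basicOpen (hc : HasCharts π U c f) (H : ∀ i, c i i = 1)
    (hcov : ∀ y, ∃ i, y ∈ U i) (hbo : ∀ i m, Y.basicOpen (c i m) ≤ U m) (m : κ) :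
    π.base '' (V.basicOpen (f m) : Set V) = (U m : Set Y) := by
  refine Set.Subset.antisymm ?_ fun y hy => ?_
  · rintro y ⟨v, hv, rfl⟩
    obtain ⟨i, hi⟩ := hcov (π.base v)
    have hv' : v ∈ V.basicOpen (V.presheaf.map (homOfLE le_top).op (f m) : Γ(V, π ⁻¹ᵁ U i)) := by
      rw [Scheme.basicOpen_res]
      exact ⟨hi, hv⟩
    rw [hc.formula H i m, Scheme.basicOpen_mul, ← Scheme.preimage_basicOpen] at hv'
    exact hbo i m hv'.1
  · obtain ⟨e, he, hf⟩ := hc m
    let s : (U m).toScheme ⟶ A1 (U m).toScheme := AffineSpace.homOfVector (𝟙 _) fun _ => 1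
    have h1 : (s ≫ e).appTop (f m) = 1 := by
      rw [Scheme.Hom.comp_appTop, CommRingCat.comp_apply, hf,
        show ev U c (U m).ι m m (top_le le_rfl) = 1 from by rw [ev, H, map_one], map_one, one_mul]
      exact AffineSpace.homOfVector_appTop_coord _ _ _
    refine ⟨(s ≫ e).base ⟨y, hy⟩, ?_, ?_⟩
    · show (⟨y, hy⟩ : (U m).toScheme) ∈ (s ≫ e) ⁻¹ᵁ V.basicOpen (f m)
      rw [Scheme.preimage_basicOpen_top, h1, Scheme.basicOpen_of_isUnit _ isUnit_one]
      trivial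
    · rw [← Scheme.Hom.comp_apply, Category.assoc, ← he.w, ← Category.assoc s,
        AffineSpace.homOfVector_over, Category.id_comp]
      rfl

/-- Pullback. -/
theorem HasCharts.pullback (hc : HasCharts π U c f) {X V' : Scheme.{u}} {φ : X ⟶ Y} {π' : V' ⟶ X}
    {pr : V' ⟶ V} (h : IsPullback π' pr φ π) :
    HasCharts π' (fun i => φ ⁻¹ᵁ U i) (fun i m => φ.app (U i) (c i m)) (fun m => pr.appTop (f m)) := by
  intro i
  obtain ⟨e, he, hf⟩ := hc i
  let g : (φ ⁻¹ᵁ U i).toScheme ⟶ (U i).toScheme := φ ∣_ U i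
  have hg : g ≫ (U i).ι = (φ ⁻¹ᵁ U i).ι ≫ φ := morphismRestrict_ι φ (U i)
  have h2 := (isPullback_tr g isUnit_one).paste_vert he
  rw [hg] at h2
  refine ⟨h.lift ((A1 _ ↘ _) ≫ (φ ⁻¹ᵁ U i).ι) (tr g 1 ≫ e) (by rw [Category.assoc, h2.w]), ?_, fun m => ?_⟩
  · refine IsPullback.of_bot ?_ (h.lift_fst _ _ _).symm h
    rw [h.lift_snd]
    exact h2
  · rw [← CommRingCat.comp_apply, ← Scheme.Hom.comp_appTop, h.lift_snd, Scheme.Hom.comp_appTop,
      CommRingCat.comp_apply, hf, map_mul, tr_appTop_over, tr_crd, map_one, one_mul,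
      appTop_ev U c _ _ _ _ _ _ hg (fun x _ => x.2)]
    congr 2

end Groth.Agent.LineTotal
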