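import Groth.Agent.LineTotal.Props
import Groth.Agent.AmpleX.Sect

/-! The cocycle given by an ample module. -/

universe u

open CategoryTheory AlgebraicGeometry TopologicalSpace
open Groth.Agent.H23.PicMul

noncomputable section

set_option backward.isDefEq.respectTransparency false
set_option backward.isDefEq.respectTransparency.types false

namespace Groth.Agent.LineTotal

variable {Y : Scheme.{u}}

/-- The cocycle of a family of sections of an invertible module. -/
theorem exists_cocycle_of_sections {L : Y.Modules} {κ : Type u} (a : κ → Γ(L, ⊤))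
    (hcov : ∀ y, ∃ i, y ∈ AmpleX.locus (a i)) :
    ∃ c : ∀ i, κ → Γ(Y, AmpleX.locus (a i)), IsCocycle (fun i => AmpleX.locus (a i)) c ∧
      ∀ i m, Y.basicOpen (c i m) ≤ AmpleX.locus (a m) := by
  let U : κ → Y.Opens := fun i => AmpleX.locus (a i)
  let e : ∀ i, Γ(L, U i) := fun i => AModX.res L le_top (a i)
  have he : ∀ i, InvX.IsFrame (e i) := fun i => AmpleX.isFrame_res_of_le (a i) le_rfl
  choose c hc using fun i m => (he i).exists_coord le_rfl (AModX.res L (le_top : U i ≤ ⊤) (a m))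
  have hc' : ∀ (i m : κ) (W : Y.Opens) (h : W ≤ U i),
      AModX.res L le_top (a m) = AModX.resR h (c i m) • AModX.res L h (e i) := by
    intro i m W h
    have := congrArg (AModX.res L h) (hc i m)
    rw [AModX.res_res, AModX.res_smul, AModX.res_res] at this
    exact this
  refine ⟨c, ⟨hcov, fun i => (he i).coord_unique le_rfl ?_, fun i j l => ?_⟩, fun i m => ?_⟩
  · rw [← hc i i, one_smul]
    simp [e, AModX.res_res]
  · refine ((he i).res (inf_le_left : U i ⊓ U j ≤ U i)).coord_unique le_rfl ?_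
    rw [AModX.res_res, mul_smul]
    change AModX.resR _ (c i j) • AModX.resR _ (c j l) • AModX.res L inf_le_left (e i) =
      AModX.resR _ (c i l) • AModX.res L inf_le_left (e i)
    rw [smul_comm, ← hc' i j _ inf_le_left, ← hc' i l _ inf_le_left]
    conv_rhs => rw [hc' j l _ inf_le_right]
    simp only [e, AModX.res_res]
  · have h := hc' i m (Y.basicOpen (c i m)) (Y.basicOpen_le _)
    refine AmpleX.le_locus (a m) le_top ?_
    rw [h]
    refine ((he i).res _).isUnit_smul ?_
    exact RingedSpace.isUnit_res_basicOpen _ _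

theorem exists_cocycle {M : Y.Modules} (hM : CohB1.IsAmple M) :
    ∃ (κ : Type u) (U : κ → Y.Opens) (c : ∀ i, κ → Γ(Y, U i)), (∀ i, IsAffineOpen (U i)) ∧
      IsCocycle U c ∧ ∀ i m, Y.basicOpen (c i m) ≤ U m := by
  classical
  haveI := hM.2.1
  have hloc : ∀ y : Y, ∃ (n : ℕ) (b : Γ(CohB1.tensorPow M (n + 1), ⊤)),
      y ∈ AmpleX.locus b ∧ IsAffineOpen (AmpleX.locus b) := fun y => by
    obtain ⟨n, s, hys, hs⟩ := hM.2.2 y
    rw [AmpleX.genLocus_eq_locus] at hys hs
    exact ⟨n, _, hys, hs⟩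
  choose n b hyb hb using hloc
  obtain ⟨S, hS⟩ := isCompact_univ.elim_finite_subcover (fun y => (AmpleX.locus (b y) : Set Y))
    (fun y => (AmpleX.locus (b y)).2) (fun y _ => Set.mem_iUnion.2 ⟨y, hyb y⟩)
  let N := ∏ y ∈ S, (n y + 1)
  have hpow : ∀ y : S, ∃ t : Γ(CohB1.tensorPow M N, ⊤), AmpleX.locus t = AmpleX.locus (b y) := fun y => by
    obtain ⟨j, hj⟩ : n y + 1 ∣ N := Finset.dvd_prod_of_mem (fun y => n y + 1) y.2
    have hN : 0 < N := Finset.prod_pos fun x _ => Nat.succ_pos _
    have hj0 : 0 < j := Nat.pos_of_ne_zero fun h => by rw [h, mul_zero] at hj; omega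
    rw [hj]
    exact AmpleX.exists_pow_section hM.1 (b y) hj0
  choose t ht using hpow
  have hcov : ∀ y, ∃ i : S, y ∈ AmpleX.locus (t i) := fun y => by
    obtain ⟨z, hz, hy⟩ := Set.mem_iUnion₂.1 (hS (Set.mem_univ y))
    exact ⟨⟨z, hz⟩, (ht ⟨z, hz⟩).symm ▸ hy⟩
  obtain ⟨c, hc, hbo⟩ := exists_cocycle_of_sections t hcov
  exact ⟨S, _, c, fun i => (ht i).symm ▸ hb i, hc, hbo⟩

end Groth.Agent.LineTotal
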