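import Mathlib.AlgebraicGeometry.AffineSpace
import Mathlib.AlgebraicGeometry.RelativeGluing
import Mathlib.AlgebraicGeometry.Morphisms.Affine

/-! The total space of the line bundle given by a cocycle. -/

universe u

open CategoryTheory Limits AlgebraicGeometry TopologicalSpace

noncomputable section

set_option backward.isDefEq.respectTransparency false
set_option backward.isDefEq.respectTransparency.types false

namespace Groth.Agent.LineTotal

/-- The affine line over a scheme. -/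
abbrev A1 (W : Scheme.{u}) : Scheme.{u} := AffineSpace PUnit.{u + 1} W

/-- The coordinate of the affine line. -/
abbrev crd (W : Scheme.{u}) : Γ(A1 W, ⊤) := AffineSpace.coord W PUnit.unit.{u + 1}

/-- The affine line over `g`, scaled by `a`. -/
def tr {W W' : Scheme.{u}} (g : W ⟶ W') (a : Γ(W, ⊤)) : A1 W ⟶ A1 W' :=
  AffineSpace.homOfVector ((A1 W ↘ W) ≫ g) fun _ => (A1 W ↘ W).appTop a * crd W

variable {W W' W'' : Scheme.{u}}

@[reassoc]
theorem tr_over (g : W ⟶ W') (a : Γ(W, ⊤)) : tr g a ≫ (A1 W' ↘ W') = (A1 W ↘ W) ≫ g :=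
  AffineSpace.homOfVector_over _ _

theorem tr_crd (g : W ⟶ W') (a : Γ(W, ⊤)) : (tr g a).appTop (crd W') = (A1 W ↘ W).appTop a * crd W :=
  AffineSpace.homOfVector_appTop_coord _ _ _

theorem tr_appTop_over (g : W ⟶ W') (a : Γ(W, ⊤)) (b : Γ(W', ⊤)) :
    (tr g a).appTop ((A1 W' ↘ W').appTop b) = (A1 W ↘ W).appTop (g.appTop b) := by
  rw [← CommRingCat.comp_apply, ← Scheme.Hom.comp_appTop, tr_over, Scheme.Hom.comp_appTop,
    CommRingCat.comp_apply]

theorem tr_comp (g : W ⟶ W') (g' : W' ⟶ W'') (a : Γ(W, ⊤)) (b : Γ(W', ⊤)) :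
    tr g a ≫ tr g' b = tr (g ≫ g') (a * g.appTop b) := by
  refine AffineSpace.hom_ext ?_ fun i => ?_
  · rw [Category.assoc, tr_over, tr_over_assoc, tr_over]
  · rw [Scheme.Hom.comp_appTop, CommRingCat.comp_apply]
    change (tr g a).appTop ((tr g' b).appTop (crd W'')) = (tr (g ≫ g') _).appTop (crd W'')
    rw [tr_crd, tr_crd, map_mul, tr_crd, tr_appTop_over, map_mul]
    ring

theorem tr_id_one : tr (𝟙 W) 1 = 𝟙 (A1 W) := by
  refine AffineSpace.hom_ext ?_ fun i => ?_
  · rw [tr_over, Category.comp_id, Category.id_comp]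
  · change (tr (𝟙 W) 1).appTop (crd W) = crd W
    rw [tr_crd, map_one, one_mul]

theorem tr_map (g : W ⟶ W') : tr g 1 = AffineSpace.map PUnit.{u + 1} g := by
  refine AffineSpace.hom_ext ?_ fun i => ?_
  · rw [tr_over, AffineSpace.map_over]
  · rw [AffineSpace.map_appTop_coord]
    change (tr g 1).appTop (crd W') = crd W
    rw [tr_crd, map_one, one_mul]

theorem isIso_tr_id {a : Γ(W, ⊤)} (ha : IsUnit a) : IsIso (tr (𝟙 W) a) := by
  obtain ⟨a, rfl⟩ := ha
  exact ⟨tr (𝟙 W) ↑a⁻¹, by simp [tr_comp, tr_id_one], by simp [tr_comp, tr_id_one]⟩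

theorem isPullback_tr (g : W ⟶ W') {a : Γ(W, ⊤)} (ha : IsUnit a) :
    IsPullback (A1 W ↘ W) (tr g a) g (A1 W' ↘ W') := by
  haveI := isIso_tr_id ha
  have h2 := (AffineSpace.isPullback_map (n := PUnit.{u + 1}) g).flip
  refine h2.of_iso (asIso (tr (𝟙 W) a)).symm (Iso.refl _) (Iso.refl _) (Iso.refl _) ?_ ?_ ?_ ?_
  · simp only [Iso.refl_hom, Category.comp_id, Iso.symm_hom, asIso_inv]
    rw [IsIso.eq_inv_comp, tr_over, Category.comp_id]
  · simp only [Iso.refl_hom, Category.comp_id, Iso.symm_hom, asIso_inv]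
    rw [IsIso.eq_inv_comp, ← tr_map, tr_comp]
    simp
  · simp
  · simp

section

variable {Y : Scheme.{u}} {κ : Type u} (U : κ → Y.Opens) (c : ∀ i, κ → Γ(Y, U i))

/-- A cocycle of functions. -/
structure IsCocycle : Prop where
  cover : ∀ y, ∃ i, y ∈ U i
  self : ∀ i, c i i = 1
  mul : ∀ i j l, Y.presheaf.map (homOfLE inf_le_left).op (c i j) *
    Y.presheaf.map (homOfLE inf_le_right).op (c j l) =
      Y.presheaf.map (homOfLE (inf_le_left : U i ⊓ U j ≤ U i)).op (c i l)

/-- The value of the cocycle on a scheme over `U i`. -/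
def ev (g : W ⟶ Y) (i m : κ) (h : ⊤ ≤ g ⁻¹ᵁ U i) : Γ(W, ⊤) := g.appLE (U i) ⊤ h (c i m)

theorem appTop_ev (f : W' ⟶ W) (g : W ⟶ Y) (i m : κ) (h : ⊤ ≤ g ⁻¹ᵁ U i) (g' : W' ⟶ Y) (e : f ≫ g = g')
    (h' : ⊤ ≤ g' ⁻¹ᵁ U i) : f.appTop (ev U c g i m h) = ev U c g' i m h' := by
  subst e
  rw [ev, ev, ← Scheme.Hom.appLE_comp_appLE f g (U i) ⊤ ⊤ h le_top, CommRingCat.comp_apply]
  exact congrArg (fun t => t (g.appLE (U i) ⊤ h (c i m))) (Scheme.Hom.app_eq_appLE f)

variable {U c}

theorem IsCocycle.ev_self (H : IsCocycle U c) (g : W ⟶ Y) (i : κ) (h : ⊤ ≤ g ⁻¹ᵁ U i) :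
    ev U c g i i h = 1 := by rw [ev, H.self, map_one]

theorem IsCocycle.ev_mul (H : IsCocycle U c) (g : W ⟶ Y) (i j l : κ) (hi : ⊤ ≤ g ⁻¹ᵁ U i)
    (hj : ⊤ ≤ g ⁻¹ᵁ U j) : ev U c g i j hi * ev U c g j l hj = ev U c g i l hi := by
  have h : ⊤ ≤ g ⁻¹ᵁ (U i ⊓ U j) := fun x hx => ⟨hi hx, hj hx⟩
  have := congrArg (g.appLE (U i ⊓ U j) ⊤ h).hom (H.mul i j l)
  simp only [map_mul, ← CommRingCat.comp_apply, Scheme.Hom.map_appLE] at this
  exact this

theorem IsCocycle.isUnit_ev (H : IsCocycle U c) (g : W ⟶ Y) (i j : κ) (hi : ⊤ ≤ g ⁻¹ᵁ U i)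
    (hj : ⊤ ≤ g ⁻¹ᵁ U j) : IsUnit (ev U c g i j hi) :=
  IsUnit.of_mul_eq_one _ ((H.ev_mul g i j i hi hj).trans (H.ev_self g i hi))

variable (U) in
/-- The affine opens contained in a member of the family. -/
abbrev Idx : Type u := {W : Y.affineOpens // ∃ i, W.1 ≤ U i}

/-- A chosen member containing the open. -/
def sel (W : Idx U) : κ := W.2.choose

theorem le_sel (W : Idx U) : W.1.1 ≤ U (sel W) := W.2.choose_spec

theorem top_le {W : Y.Opens} {i : κ} (h : W ≤ U i) : ⊤ ≤ W.ι ⁻¹ᵁ U i := fun x _ => h x.2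

theorem exists_le_idx (H : IsCocycle U c) {O : Y.Opens} {x : Y} (hx : x ∈ O) :
    ∃ W : Idx U, x ∈ W.1.1 ∧ W.1.1 ≤ O := by
  obtain ⟨i, hi⟩ := H.cover x
  obtain ⟨W, hW, hxW, hle⟩ := exists_isAffineOpen_mem_and_subset
    (show x ∈ O ⊓ U i from ⟨hx, hi⟩)
  exact ⟨⟨⟨W, hW⟩, i, fun y hy => (hle hy).2⟩, hxW, fun y hy => (hle hy).1⟩

variable (H : IsCocycle U c)

/-- The cover by these opens. -/
@[simps I₀ X f]
def cov (H : IsCocycle U c) : Y.OpenCover where
  I₀ := Idx U
  X W := W.1.1.toScheme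
  f W := W.1.1.ι
  mem₀ := by
    rw [Scheme.presieve₀_mem_precoverage_iff]
    refine ⟨fun x => ?_, inferInstance⟩
    obtain ⟨W, hW, -⟩ := exists_le_idx H (O := ⊤) (x := x) trivial
    exact ⟨W, ⟨⟨x, hW⟩, rfl⟩⟩

instance : Preorder (cov H).I₀ := inferInstanceAs (Preorder (Idx U))

instance : (cov H).LocallyDirected :=
  .ofIsBasisOpensRange (by intros; simp) <| by
    refine Opens.isBasis_iff_nbhd.2 fun {O x} hx => ?_
    obtain ⟨W, hW, hle⟩ := exists_le_idx H hx
    exact ⟨W.1.1, ⟨W, by simp⟩, hW, hle⟩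

instance : Quiver.IsThin (cov H).I₀ := fun _ _ => inferInstanceAs (Subsingleton (_ ⟶ _))

instance : Small.{u} (cov H).I₀ := inferInstanceAs (Small.{u} (Idx U))

/-- The glueing datum. -/
def datum : (cov H).RelativeGluingData where
  functor :=
    { obj := fun W => A1 W.1.1.toScheme
      map := fun {W W'} h => tr (Y.homOfLE (leOfHom h : W.1 ≤ W'.1))
        (ev U c W.1.1.ι (sel W) (sel W') (top_le (le_sel W)))
      map_id := fun W => by
        rw [H.ev_self, Scheme.homOfLE_rfl, tr_id_one]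
      map_comp := fun {W W' W''} h h' => by
        rw [tr_comp, appTop_ev U c _ _ _ _ _ _ (Scheme.homOfLE_ι _ _)
          (top_le ((show W.1.1 ≤ W'.1.1 from leOfHom h).trans (le_sel W'))), H.ev_mul, Scheme.homOfLE_homOfLE] }
  natTrans :=
    { app := fun W => A1 W.1.1.toScheme ↘ W.1.1.toScheme
      naturality := fun {W W'} h => by
        refine (tr_over _ _).trans ?_
        congr 1 }
  equifibered := fun {W W'} h => by
    have e : Y.homOfLE (leOfHom h : W.1 ≤ W'.1) = (cov H).functorOfLocallyDirected.map h := by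
      rw [← cancel_mono W'.1.1.ι, Scheme.homOfLE_ι]
      exact (Scheme.Cover.trans_map (cov H) h).symm
    have := isPullback_tr (Y.homOfLE (leOfHom h : W.1 ≤ W'.1))
      (H.isUnit_ev W.1.1.ι (sel W) (sel W') (top_le (le_sel W))
        (top_le ((show W.1.1 ≤ W'.1.1 from leOfHom h).trans (le_sel W'))))
    rw [e] at this
    convert! this.flip using 1

/-- All the linear functions at once. -/
def toAffine : (datum H).glued ⟶ AffineSpace κ Y :=
  colimit.desc (datum H).functor
    { pt := AffineSpace κ Y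
      ι :=
        { app := fun W => AffineSpace.homOfVector ((A1 W.1.1.toScheme ↘ W.1.1.toScheme) ≫ W.1.1.ι)
            fun m => (A1 W.1.1.toScheme ↘ W.1.1.toScheme).appTop
              (ev U c W.1.1.ι (sel W) m (top_le (le_sel W))) * crd W.1.1.toScheme
          naturality := fun W W' h => by
            dsimp [datum]
            rw [Category.comp_id]
            refine AffineSpace.hom_ext ?_ fun m => ?_
            · rw [Category.assoc, AffineSpace.homOfVector_over, AffineSpace.homOfVector_over,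
                tr_over_assoc, Scheme.homOfLE_ι]
            · rw [Scheme.Hom.comp_appTop, CommRingCat.comp_apply,
                AffineSpace.homOfVector_appTop_coord, AffineSpace.homOfVector_appTop_coord, map_mul,
                tr_appTop_over, tr_crd, appTop_ev U c _ _ _ _ _ _ (Scheme.homOfLE_ι _ _)
                  (top_le ((show W.1.1 ≤ W'.1.1 from leOfHom h).trans (le_sel W'))), ← mul_assoc, ← map_mul,
                mul_comm (ev U c _ _ _ _), H.ev_mul] } }

/-- The chart property: over each member the bundle is the affine line, and the functions are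
the cocycle times the coordinate. -/
def HasCharts {V : Scheme.{u}} (π : V ⟶ Y) (U : κ → Y.Opens) (c : ∀ i, κ → Γ(Y, U i))
    (f : κ → Γ(V, ⊤)) : Prop :=
  ∀ i, ∃ e : A1 (U i).toScheme ⟶ V, IsPullback (A1 (U i).toScheme ↘ (U i).toScheme) e (U i).ι π ∧
    ∀ m, e.appTop (f m) = (A1 (U i).toScheme ↘ (U i).toScheme).appTop
      (ev U c (U i).ι i m (top_le le_rfl)) * crd (U i).toScheme

theorem exists_total (H : IsCocycle U c) (hU : ∀ i, IsAffineOpen (U i)) :
    ∃ (V : Scheme.{u}) (π : V ⟶ Y) (f : κ → Γ(V, ⊤)), IsAffineHom π ∧ HasCharts π U c f := by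
  have hchart : HasCharts (datum H).toBase U c
      (fun m => (toAffine H).appTop (AffineSpace.coord Y m)) := fun i => by
    let W : (cov H).I₀ := (⟨⟨U i, hU i⟩, i, le_rfl⟩ : Idx U)
    let a := ev U c (U i).ι i (sel W) (top_le le_rfl)
    let ιW : A1 (U i).toScheme ⟶ (datum H).glued := colimit.ι (datum H).functor W
    haveI := isIso_tr_id (H.isUnit_ev (U i).ι i (sel W) (top_le le_rfl) (top_le (le_sel W)))
    refine ⟨tr (𝟙 _) a ≫ ιW, ?_, fun m => ?_⟩
    · have hW : IsPullback (A1 (U i).toScheme ↘ (U i).toScheme) ιW (U i).ι (datum H).toBase :=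
        (datum H).isPullback_natTrans_ι_toBase W
      refine hW.of_iso (asIso (tr (𝟙 _) a)).symm (Iso.refl _) (Iso.refl _) (Iso.refl _) ?_ ?_ ?_ ?_
      · simp only [Iso.refl_hom, Category.comp_id, Iso.symm_hom, asIso_inv]
        rw [IsIso.eq_inv_comp, tr_over, Category.comp_id]
      · simp only [Iso.refl_hom, Category.comp_id, Iso.symm_hom, asIso_inv]
        rw [IsIso.eq_inv_comp]
      · simp
      · simp
    · have hι : ιW ≫ toAffine H = AffineSpace.homOfVector ((A1 (U i).toScheme ↘ (U i).toScheme) ≫ (U i).ι)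
          fun n => (A1 (U i).toScheme ↘ (U i).toScheme).appTop
            (ev U c (U i).ι (sel W) n (top_le (le_sel W))) * crd (U i).toScheme :=
        colimit.ι_desc _ W
      change (tr (𝟙 _) a ≫ ιW).appTop ((toAffine H).appTop (AffineSpace.coord Y m)) = _
      rw [Scheme.Hom.comp_appTop, CommRingCat.comp_apply,
        show ιW.appTop ((toAffine H).appTop (AffineSpace.coord Y m)) =
          (ιW ≫ toAffine H).appTop (AffineSpace.coord Y m) by
            rw [Scheme.Hom.comp_appTop, CommRingCat.comp_apply],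
        hι, AffineSpace.homOfVector_appTop_coord, map_mul, tr_crd, tr_appTop_over,
        Scheme.Hom.id_appTop, CommRingCat.id_apply, ← mul_assoc, ← map_mul, mul_comm _ a, H.ev_mul]
  refine ⟨_, _, _, ?_, hchart⟩
  refine IsZariskiLocalAtTarget.of_iSup_eq_top (P := @IsAffineHom) U
    (eq_top_iff.2 fun y _ => Opens.mem_iSup.2 (H.cover y)) fun i => ?_
  obtain ⟨e, he, -⟩ := hchart i
  have h2 := isPullback_morphismRestrict (datum H).toBase (U i)
  rw [show (datum H).toBase ∣_ U i = (h2.isoIsPullback _ _ he).hom ≫ (A1 (U i).toScheme ↘ (U i).toScheme) from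
    (h2.isoIsPullback_hom_fst _ _ he).symm]
  infer_instance

end

end Groth.Agent.LineTotal
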