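import Groth.Agent.LineTotal.Ample
import Groth.Agent.GITQuot.Orbit
import Groth.Prelude.Def_GLinSh

/-! Linearisation of a line bundle pulled back along an invariant morphism. -/

universe u

open CategoryTheory CategoryTheory.Limits MonoidalCategory CartesianMonoidalCategory MonObj AlgebraicGeometry
  Opposite TopologicalSpace

noncomputable section

set_option backward.isDefEq.respectTransparency false
set_option backward.isDefEq.respectTransparency.types false

namespace Groth.Agent.LineTotal

variable {S : Scheme.{u}} {G X Y Vy : Over S} (φ : X ⟶ Y) (π : Vy ⟶ Y)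

/-- The pulled back total space. -/
def totV : Over S := Over.mk (pullback.fst φ.left π.left ≫ X.hom)

/-- Its projection. -/
def totπ : totV φ π ⟶ X := Over.homMk (pullback.fst φ.left π.left) rfl

/-- The map to the bundle below. -/
def totPr : totV φ π ⟶ Vy := Over.homMk (pullback.snd φ.left π.left) (by
  rw [← Over.w π, ← Category.assoc, ← pullback.condition, Category.assoc, Over.w]; rfl)

theorem totπ_φ : totπ φ π ≫ φ = totPr φ π ≫ π := Over.OverMorphism.ext pullback.condition

/-- The map into the pulled back total space. -/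
def totLift {Z : Over S} (x : Z ⟶ X) (v : Z ⟶ Vy) (h : x ≫ φ = v ≫ π) : Z ⟶ totV φ π :=
  Over.homMk (pullback.lift x.left v.left (congrArg CommaMorphism.left h)) (by
    change _ ≫ pullback.fst φ.left π.left ≫ X.hom = Z.hom
    rw [pullback.lift_fst_assoc, Over.w])

theorem totLift_π {Z : Over S} (x : Z ⟶ X) (v : Z ⟶ Vy) (h : x ≫ φ = v ≫ π) :
    totLift φ π x v h ≫ totπ φ π = x := Over.OverMorphism.ext (pullback.lift_fst _ _ _)

theorem totLift_pr {Z : Over S} (x : Z ⟶ X) (v : Z ⟶ Vy) (h : x ≫ φ = v ≫ π) :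
    totLift φ π x v h ≫ totPr φ π = v := Over.OverMorphism.ext (pullback.lift_snd _ _ _)

theorem tot_ext {Z : Over S} {g h : Z ⟶ totV φ π} (h1 : g ≫ totπ φ π = h ≫ totπ φ π)
    (h2 : g ≫ totPr φ π = h ≫ totPr φ π) : g = h :=
  Over.OverMorphism.ext (pullback.hom_ext (congrArg CommaMorphism.left h1) (congrArg CommaMorphism.left h2))

variable [GrpObj G] {a : AlgGrp.Action G X} {φ} (hi : GIT.IsInvariant a φ)

/-- The lifted action: trivial on the bundle below. -/
def totAct : AlgGrp.Action G (totV φ π) where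
  act := totLift φ π ((G ◁ totπ φ π) ≫ a.act) (snd G (totV φ π) ≫ totPr φ π) (by
    rw [Category.assoc, hi, ← Category.assoc, whiskerLeft_snd, Category.assoc, Category.assoc, totπ_φ])
  one_act := by
    refine tot_ext φ π ?_ ?_
    · rw [Category.assoc, totLift_π, ← Category.assoc, ← whisker_exchange, Category.assoc, a.one_act,
        leftUnitor_naturality]
    · rw [Category.assoc, totLift_pr, ← Category.assoc, whiskerRight_snd, leftUnitor_hom]
  mul_act := by
    refine tot_ext φ π ?_ ?_
    · simp only [Category.assoc, totLift_π]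
      rw [← Category.assoc, ← whisker_exchange, Category.assoc, a.mul_act, associator_naturality_right_assoc,
        ← whiskerLeft_comp_assoc, ← whiskerLeft_comp_assoc, totLift_π]
    · simp only [Category.assoc, totLift_pr]
      rw [whiskerRight_snd_assoc, whiskerLeft_snd_assoc, totLift_pr]
      simp

theorem totAct_π : (totAct π hi).act ≫ totπ φ π = (G ◁ totπ φ π) ≫ a.act := 
  Over.OverMorphism.ext (pullback.lift_fst _ _ _)

theorem totAct_pr : (totAct π hi).act ≫ totPr φ π = snd G (totV φ π) ≫ totPr φ π := 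
  Over.OverMorphism.ext (pullback.lift_snd _ _ _)

include hi in
theorem exists_linBun [IsAffineHom φ.left] {κ : Type u} {U : κ → Y.left.Opens}
    {c : ∀ i, κ → Γ(Y.left, U i)} (hU : ∀ i, IsAffineOpen (U i)) (H : IsCocycle U c)
    (hbo : ∀ i m, Y.left.basicOpen (c i m) ≤ U m) :
    ∃ B : GLinSh.LinBun G a, ∀ i, ∃ f : Γ(B.V.left, ⊤),
      B.IsInvSection 1 f ∧ (φ.left ⁻¹ᵁ U i : Set X.left) = GLinSh.nonvanishing B.π f := by
  obtain ⟨W, w, f, haff, hch⟩ := exists_total H hU
  let Vy : Over S := Over.mk (w ≫ Y.hom)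
  let π : Vy ⟶ Y := Over.homMk w rfl
  let p : totV φ π ⟶ X := totπ φ π
  let g : κ → Γ((totV φ π).left, ⊤) := fun m => (totPr φ π).left.appTop (f m)
  let U' : κ → X.left.Opens := fun i => φ.left ⁻¹ᵁ U i
  let c' : ∀ i, κ → Γ(X.left, U' i) := fun i m => φ.left.app (U i) (c i m)
  have hpb : IsPullback p.left (totPr φ π).left φ.left π.left := IsPullback.of_hasPullback _ _
  have hch' : HasCharts p.left U' c' g := HasCharts.pullback (π := π.left) hch hpb
  have hself : ∀ i, c' i i = 1 := fun i => by simp only [c', H.self, map_one]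
  have hcov' : ∀ x, ∃ i, x ∈ U' i := fun x => H.cover (φ.left.base x)
  have hbo' : ∀ i m, X.left.basicOpen (c' i m) ≤ U' m := fun i m => by
    simp only [c', ← Scheme.preimage_basicOpen]
    exact fun x hx => hbo i m hx
  have hinv : ∀ m, GLinSh.IsInvFn (totAct π hi) (g m) := fun m => by
    change (totAct π hi).act.left.appTop ((totPr φ π).left.appTop (f m)) =
      (snd G (totV φ π)).left.appTop ((totPr φ π).left.appTop (f m))
    rw [← CommRingCat.comp_apply, ← CommRingCat.comp_apply, ← Scheme.Hom.comp_appTop, ← Scheme.Hom.comp_appTop,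
      ← Over.comp_left, ← Over.comp_left, totAct_pr]
  let chart : ∀ O : X.left.Opens, Set (Γ((totV φ π).left, p.left ⁻¹ᵁ O)) := fun O =>
    {y | ∃ i, O = U' i ∧ y = GLinSh.resTop p O (g i)}
  let A : GLinSh.LinAtlas p :=
    { affine := MorphismProperty.of_isPullback (P := @IsAffineHom) hpb.flip haff
      chart := chart
      cover := fun x => by
        obtain ⟨i, hxi⟩ := hcov' x
        exact ⟨U' i, hxi, _, i, rfl, rfl⟩
      coord := by
        rintro O y ⟨i, rfl, rfl⟩ W hW hWU
        convert hch'.bijective_eval hself hW hWU using 3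
        change (totV φ π).left.presheaf.map _ ((totV φ π).left.presheaf.map _ (g i)) = _
        rw [← CommRingCat.comp_apply, ← Functor.map_comp]
        rfl
      linear := by
        rintro O O' y y' ⟨i, rfl, rfl⟩ ⟨j, rfl, rfl⟩
        refine ⟨X.left.presheaf.map (homOfLE inf_le_left).op (c' i j), ?_, ?_⟩
        · refine IsUnit.of_mul_eq_one (X.left.presheaf.map (homOfLE inf_le_right).op (c' j i)) ?_
          have := congrArg (φ.left.app (U i ⊓ U j)).hom (H.mul i j i)
          simp only [H.self, map_mul, map_one, ← CommRingCat.comp_apply, Scheme.Hom.naturality] at this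
          exact this
        · have h := congrArg ((totV φ π).left.presheaf.map
            (homOfLE (p.left.preimage_mono (inf_le_left : U' i ⊓ U' j ≤ U' i))).op) (hch'.formula hself i j)
          rw [map_mul] at h
          simp only [GLinSh.res, GLinSh.resTop, ← CommRingCat.comp_apply, Scheme.Hom.naturality,
            ← Functor.map_comp] at h ⊢
          exact h }
  refine ⟨⟨totV φ π, p, A, totAct π hi, totAct_π π hi, ?_⟩, fun i => ⟨g i, ⟨?_, hinv i⟩,
    (hch'.image_basicOpen hself hcov' hbo' i).symm⟩⟩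
  · rintro O O' y y' ⟨i, rfl, rfl⟩ ⟨j, rfl, rfl⟩
    have hd : a.act.left ⁻¹ᵁ U' j ⊓ (snd G X).left ⁻¹ᵁ U' i ≤ (snd G X).left ⁻¹ᵁ U' i := inf_le_right
    refine ⟨(snd G X).left.appLE (U' i) _ hd (c' i j), ?_⟩
    have key : ∀ (a b : (G ⊗ totV φ π).left ⟶ X.left) (_ : a = b) (O : (G ⊗ totV φ π).left.Opens)
        (ha : O ≤ a ⁻¹ᵁ U' i) (hb : O ≤ b ⁻¹ᵁ U' i), a.appLE (U' i) O ha = b.appLE (U' i) O hb := by
      rintro a b rfl O ha hb
      rfl
    have hlo := GLinSh.liftOpen_le_snd (a := a) (π := p) (U := U' i) (U' := U' j)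
    rw [← CommRingCat.comp_apply ((snd G X).left.appLE _ _ hd), Scheme.Hom.appLE_comp_appLE,
      key _ ((snd G (totV φ π)).left ≫ p.left) (by rw [← Over.comp_left, ← Over.comp_left, whiskerLeft_snd])
        _ _ hlo,
      ← Scheme.Hom.appLE_comp_appLE (snd G (totV φ π)).left p.left (U' i) (p.left ⁻¹ᵁ U' i) _ le_rfl hlo,
      CommRingCat.comp_apply, ← Scheme.Hom.app_eq_appLE, ← map_mul, ← hch'.formula hself i j]
    simp only [GLinSh.resTop, ← CommRingCat.comp_apply, Scheme.Hom.map_appLE]
    have := hinv j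
    simp only [GLinSh.IsInvFn, Scheme.Hom.appTop, Scheme.Hom.app_eq_appLE] at this
    have h2 := congrArg ((G ⊗ totV φ π).left.presheaf.map
      (homOfLE (le_top : GLinSh.liftOpen a p (U' i) (U' j) ≤ ⊤)).op) this
    simp only [← CommRingCat.comp_apply, Scheme.Hom.appLE_map] at h2
    exact h2
  · intro O y hy
    obtain ⟨l, rfl, rfl⟩ : ∃ l, O = U' l ∧ y = GLinSh.resTop p O (g l) := hy
    refine ⟨c' l i, ?_⟩
    have h := hch'.formula hself l i
    simp only [GLinSh.resTop, pow_one]
    exact h

include hi in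
theorem exists_linBun_ss_s [IsAffineHom φ.left] {M : Y.left.Modules} (hM : CohB1.IsAmple M) :
    ∃ B : GLinSh.LinBun G a, B.ssLocus = Set.univ ∧ (GIT.IsGeomQuot a φ → B.sLocus = Set.univ) := by
  obtain ⟨κ, U, c, hU, H, hbo⟩ := exists_cocycle hM
  obtain ⟨B, hB⟩ := exists_linBun hi hU H hbo
  choose f hf hnv using hB
  refine ⟨B, Set.eq_univ_of_forall fun x => ?_, fun hq => Set.eq_univ_of_forall fun x => ?_⟩
  · obtain ⟨i, hxi⟩ := H.cover (φ.left.base x)
    exact ⟨1, f i, le_rfl, hf i, hnv i ▸ hxi, _, hnv i, (hU i).preimage φ.left⟩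
  · obtain ⟨i, hxi⟩ := H.cover (φ.left.base x)
    refine ⟨1, f i, le_rfl, hf i, hnv i ▸ hxi, _, hnv i, (hU i).preimage φ.left, ?_⟩
    intro Ω _ _ T e t _
    exact (GITQuot.isClosedAction hq Ω T e t).preimage continuous_subtype_val

end Groth.Agent.LineTotal
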